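import Groth.Agent.QuotFpqcLib.Sections
import Groth.Agent.MiscFlat6.FpqcDesc

/-!
# Stable subschemes attached to sections of fpqc quotient sheaves
-/

set_option autoImplicit false
set_option backward.isDefEq.respectTransparency false
set_option backward.isDefEq.respectTransparency.types false

universe u

open CategoryTheory CategoryTheory.Limits AlgebraicGeometry MonoidalCategory CartesianMonoidalCategory Opposite

namespace QuotFpqc

variable {S : Scheme.{u}} {R U : Over S} (s t : R ⟶ U) [IsEquivalenceRelation s t]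

theorem repMap_eq_iff {T Z : Over S} (u : Z ⟶ U) (q : Z ⟶ T)
    (σ : QuotSh.rep Scheme.fpqcPrecoverage T ⟶ QuotSh.quot Scheme.fpqcPrecoverage s t) :
    QuotSh.repMap Scheme.fpqcPrecoverage u ≫ QuotSh.quotπ Scheme.fpqcPrecoverage s t =
        QuotSh.repMap Scheme.fpqcPrecoverage q ≫ σ ↔
      pt Scheme.fpqcPrecoverage s t u = (QuotSh.quot Scheme.fpqcPrecoverage s t).obj.map q.op
        (repEquiv Scheme.fpqcPrecoverage _ T σ) := by
  rw [pt, map_repEquiv, (repEquiv Scheme.fpqcPrecoverage _ Z).injective.eq_iff]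

variable [Flat s.left] [Surjective s.left] [QuasiCompact s.left]

/-- **A section of the fpqc quotient is induced by a stable subscheme.** -/
theorem exists_subscheme_of_section (Q : MorphismProperty Scheme.{u}) [Q.IsStableUnderBaseChange]
    (hmono : Q ≤ MorphismProperty.monomorphisms _) (hQ : Q (lift t s : R ⟶ U ⊗ U).left)
    (hdesc : ∀ {X B : Scheme.{u}} {p : X ⟶ B} [DescLib.Fpqc p] {Z' : Scheme.{u}} (i' : Z' ⟶ X), Q i' →
      (∀ ⦃V : Scheme.{u}⦄ (x₀ x₁ : V ⟶ X), x₀ ≫ p = x₁ ≫ p → (∃ z, z ≫ i' = x₀) → ∃ z, z ≫ i' = x₁) →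
      ∃ (Z : Scheme.{u}) (i : Z ⟶ B), Q i ∧ ∀ ⦃V : Scheme.{u}⦄ (x : V ⟶ X),
        (∃ z, z ≫ i = x ≫ p) ↔ ∃ z', z' ≫ i' = x)
    (T : Over S) (σ : QuotSh.rep Scheme.fpqcPrecoverage T ⟶ QuotSh.quot Scheme.fpqcPrecoverage s t) :
    ∃ (Z : Over S) (i : Z ⟶ U ⊗ T), Q i.left ∧
      (∀ (T' : Over S) (r : T' ⟶ R ⊗ T),
        (∃ z : T' ⟶ Z, z ≫ i = r ≫ (s ▷ T)) ↔ (∃ z : T' ⟶ Z, z ≫ i = r ≫ (t ▷ T))) ∧
      Flat (i ≫ snd U T).left ∧ Surjective (i ≫ snd U T).left ∧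
      QuasiCompact (i ≫ snd U T).left ∧
      (∀ (T' : Over S) (z₁ z₂ : T' ⟶ Z), z₁ ≫ i ≫ snd U T = z₂ ≫ i ≫ snd U T →
        ∃ r : T' ⟶ R, r ≫ s = z₁ ≫ i ≫ fst U T ∧ r ≫ t = z₂ ≫ i ≫ fst U T) ∧
      QuotSh.repMap Scheme.fpqcPrecoverage (i ≫ fst U T) ≫ QuotSh.quotπ Scheme.fpqcPrecoverage s t =
        QuotSh.repMap Scheme.fpqcPrecoverage (i ≫ snd U T) ≫ σ := by
  haveI : Mono (lift t s : R ⟶ U ⊗ U).left := hmono _ hQ
  let F := QuotSh.quot Scheme.fpqcPrecoverage s t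
  let x : Presieve.FamilyOfElements F.obj (⊤ : Sieve T).arrows := fun V g _ =>
    F.obj.map g.op (repEquiv Scheme.fpqcPrecoverage _ T σ)
  have hx : x.Compatible := fun V₁ V₂ W k₁ k₂ g₁ g₂ _ _ he => by
    simp only [x, ← Functor.map_comp_apply, ← op_comp, he]
  obtain ⟨T', p, a, hp, hcompat, -, hcov⟩ := exists_point_data (fun h => h)
    ((QuotSh.J Scheme.fpqcPrecoverage S).top_mem T) x hx
  haveI := hp
  obtain ⟨Z, i, hi, hiff⟩ := exists_subscheme (s := s) (t := t) Q hQ hdesc p a hcompat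
  haveI : Mono i.left := hmono _ hi
  haveI := MiscFlat6.desc_quasiCompact.{u}
  refine ⟨Z, i, hi, stable p a i hiff, proj_property p a i hiff @Flat inferInstance,
    proj_property p a i hiff @Surjective inferInstance, proj_property p a i hiff @QuasiCompact inferInstance,
    fun V z₁ z₂ h => related_of_pair p a i hiff z₁ z₂ h, (repMap_eq_iff s t _ _ σ).2 ?_⟩
  obtain ⟨𝒢, h𝒢, hk⟩ := hcov (i ≫ snd U T) (i ≫ fst U T) fun W k y hy => by
    have := (hiff (k ≫ i) y (by rw [hy, Category.assoc])).1 ⟨k, rfl⟩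
    rwa [Category.assoc] at this
  refine ((isSheaf_iff_isSheaf_of_type _ _).1 F.property _ h𝒢).isSeparatedFor.ext fun W k hk' => ?_
  obtain ⟨_, he⟩ := hk k hk'
  rw [map_pt, he]
  simp only [x, F, op_comp, Functor.map_comp_apply]

/-- One inclusion between two stable subschemes with the same section. -/
theorem exists_hom_of_section [Mono (lift t s : R ⟶ U ⊗ U).left] {T Z Z' : Over S}
    (σ : QuotSh.rep Scheme.fpqcPrecoverage T ⟶ QuotSh.quot Scheme.fpqcPrecoverage s t)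
    (i : Z ⟶ U ⊗ T) (i' : Z' ⟶ U ⊗ T) [Mono i'.left]
    (hst : ∀ (V : Over S) (r : V ⟶ R ⊗ T),
      (∃ z : V ⟶ Z', z ≫ i' = r ≫ (s ▷ T)) ↔ (∃ z : V ⟶ Z', z ≫ i' = r ≫ (t ▷ T)))
    (hf : Flat (i' ≫ snd U T).left) (hs : Surjective (i' ≫ snd U T).left)
    (hq : QuasiCompact (i' ≫ snd U T).left)
    (he : QuotSh.repMap Scheme.fpqcPrecoverage (i ≫ fst U T) ≫ QuotSh.quotπ Scheme.fpqcPrecoverage s t =
      QuotSh.repMap Scheme.fpqcPrecoverage (i ≫ snd U T) ≫ σ)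
    (he' : QuotSh.repMap Scheme.fpqcPrecoverage (i' ≫ fst U T) ≫ QuotSh.quotπ Scheme.fpqcPrecoverage s t =
      QuotSh.repMap Scheme.fpqcPrecoverage (i' ≫ snd U T) ≫ σ) :
    ∃ e : Z ⟶ Z', e ≫ i' = i := by
  rw [repMap_eq_iff] at he he'
  haveI := hf; haveI := hs; haveI := hq
  obtain ⟨V, π, z, hπ, hz⟩ := exists_cover_over (i' ≫ snd U T) (i ≫ snd U T)
  haveI := hπ
  refine factors_of_fpqc i' π i ?_
  have hpt : pt Scheme.fpqcPrecoverage s t (z ≫ i' ≫ fst U T) = pt Scheme.fpqcPrecoverage s t (π ≫ i ≫ fst U T) := by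
    rw [← map_pt _ _ _ z, he', ← map_pt _ _ _ π, he, ← Functor.map_comp_apply, ← Functor.map_comp_apply, ← op_comp,
      ← op_comp, hz]
  obtain ⟨r, hr₁, hr₂⟩ := (pt_eq_iff _ s t).1 hpt
  obtain ⟨z', hz'⟩ := (hst V (lift r (z ≫ i' ≫ snd U T))).1 ⟨z, by
    apply CartesianMonoidalCategory.hom_ext <;> simp [hr₁]⟩
  refine ⟨z', hz'.trans ?_⟩
  apply CartesianMonoidalCategory.hom_ext
  · simp [hr₂]
  · simpa using hz

/-- **Uniqueness of the stable subscheme.** -/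
theorem exists_iso_of_section [Mono (lift t s : R ⟶ U ⊗ U).left] {T Z Z' : Over S}
    (σ : QuotSh.rep Scheme.fpqcPrecoverage T ⟶ QuotSh.quot Scheme.fpqcPrecoverage s t)
    (i : Z ⟶ U ⊗ T) (i' : Z' ⟶ U ⊗ T) [Mono i.left] [Mono i'.left]
    (hst : ∀ (V : Over S) (r : V ⟶ R ⊗ T),
      (∃ z : V ⟶ Z, z ≫ i = r ≫ (s ▷ T)) ↔ (∃ z : V ⟶ Z, z ≫ i = r ≫ (t ▷ T)))
    (hst' : ∀ (V : Over S) (r : V ⟶ R ⊗ T),
      (∃ z : V ⟶ Z', z ≫ i' = r ≫ (s ▷ T)) ↔ (∃ z : V ⟶ Z', z ≫ i' = r ≫ (t ▷ T)))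
    (hf : Flat (i ≫ snd U T).left) (hs : Surjective (i ≫ snd U T).left)
    (hq : QuasiCompact (i ≫ snd U T).left)
    (hf' : Flat (i' ≫ snd U T).left) (hs' : Surjective (i' ≫ snd U T).left)
    (hq' : QuasiCompact (i' ≫ snd U T).left)
    (he : QuotSh.repMap Scheme.fpqcPrecoverage (i ≫ fst U T) ≫ QuotSh.quotπ Scheme.fpqcPrecoverage s t =
      QuotSh.repMap Scheme.fpqcPrecoverage (i ≫ snd U T) ≫ σ)
    (he' : QuotSh.repMap Scheme.fpqcPrecoverage (i' ≫ fst U T) ≫ QuotSh.quotπ Scheme.fpqcPrecoverage s t =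
      QuotSh.repMap Scheme.fpqcPrecoverage (i' ≫ snd U T) ≫ σ) :
    ∃ e : Z ≅ Z', e.hom ≫ i' = i := by
  obtain ⟨f, hf₀⟩ := exists_hom_of_section s t σ i i' hst' hf' hs' hq' he he'
  obtain ⟨g, hg₀⟩ := exists_hom_of_section s t σ i' i hst hf hs hq he' he
  haveI : Mono i := (Over.forget S).mono_of_mono_map (inferInstanceAs (Mono i.left))
  haveI : Mono i' := (Over.forget S).mono_of_mono_map (inferInstanceAs (Mono i'.left))
  exact ⟨⟨f, g, by rw [← cancel_mono i, Category.assoc, hg₀, hf₀, Category.id_comp],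
    by rw [← cancel_mono i', Category.assoc, hf₀, hg₀, Category.id_comp]⟩, hf₀⟩

end QuotFpqc
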