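import Groth.Prelude.Def_QuotSh
import Mathlib.CategoryTheory.EquivalenceRelation
import Mathlib.CategoryTheory.Sites.LocallySurjective
import Mathlib.CategoryTheory.Sites.EpiMono
import Mathlib.CategoryTheory.Sites.RegularEpi

/-!
# Points of quotient sheaves by equivalence relations
-/

set_option autoImplicit false
set_option backward.isDefEq.respectTransparency false
set_option backward.isDefEq.respectTransparency.types false

universe u

open CategoryTheory CategoryTheory.Limits AlgebraicGeometry Opposite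

noncomputable section

namespace QuotFpqc

variable (K : Precoverage Scheme.{u}) {S : Scheme.{u}}

/-- Morphisms out of the sheaf of a scheme are sections. -/
def repEquiv (F : QuotSh.Sh K S) (V : Over S) : (QuotSh.rep K V ⟶ F) ≃ F.obj.obj (op V) :=
  ((sheafificationAdjunction (QuotSh.J K S) (Type (u + 1))).homEquiv _ _).trans uliftYonedaEquiv.{u + 1}

theorem map_repEquiv (F : QuotSh.Sh K S) {V W : Over S} (g : V ⟶ W) (φ : QuotSh.rep K W ⟶ F) :
    F.obj.map g.op (repEquiv K F W φ) = repEquiv K F V (QuotSh.repMap K g ≫ φ) := by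
  change F.obj.map g.op (uliftYonedaEquiv.{u + 1}
      (((sheafificationAdjunction (QuotSh.J K S) (Type (u + 1))).homEquiv _ _) φ)) =
    uliftYonedaEquiv.{u + 1} (((sheafificationAdjunction (QuotSh.J K S) (Type (u + 1))).homEquiv _ _)
      (QuotSh.repMap K g ≫ φ))
  refine Eq.trans ?_ (congrArg _ (Adjunction.homEquiv_naturality_left _ _ _).symm)
  exact uliftYonedaEquiv_naturality (X := op W) (Y := op V)
    (((sheafificationAdjunction (QuotSh.J K S) (Type (u + 1))).homEquiv _ _) φ) g.op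

theorem repMap_comp {V W X : Over S} (g : V ⟶ W) (h : W ⟶ X) :
    QuotSh.repMap K (g ≫ h) = QuotSh.repMap K g ≫ QuotSh.repMap K h := by
  simp only [QuotSh.repMap, Functor.map_comp, Functor.whiskerRight_comp]

variable {R U : Over S} (s t : R ⟶ U)

/-- The image in the quotient of a point. -/
def pt {T : Over S} (a : T ⟶ U) : (QuotSh.quot K s t).obj.obj (op T) :=
  repEquiv K _ T (QuotSh.repMap K a ≫ QuotSh.quotπ K s t)

theorem map_pt {V T : Over S} (g : V ⟶ T) (a : T ⟶ U) :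
    (QuotSh.quot K s t).obj.map g.op (pt K s t a) = pt K s t (g ≫ a) := by
  rw [pt, map_repEquiv, ← Category.assoc, ← repMap_comp]
  rfl

theorem pt_rel {T : Over S} (r : T ⟶ R) : pt K s t (r ≫ s) = pt K s t (r ≫ t) := by
  rw [pt, pt, repMap_comp, repMap_comp, Category.assoc, Category.assoc, QuotSh.quot_condition]

/-- Every section of the quotient comes locally from a point. -/
theorem exists_local_pt {T : Over S} (σ : (QuotSh.quot K s t).obj.obj (op T)) :
    ∃ 𝒮 : Sieve T, 𝒮 ∈ QuotSh.J K S T ∧ ∀ ⦃V : Over S⦄ (g : V ⟶ T), 𝒮 g →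
      ∃ a : V ⟶ U, pt K s t a = (QuotSh.quot K s t).obj.map g.op σ := by
  let η := toSheafify (QuotSh.J K S) (yoneda.obj U ⋙ uliftFunctor.{u + 1, u})
  haveI : Epi (QuotSh.quotπ K s t) := coequalizer.π_epi
  haveI : Sheaf.IsLocallySurjective (QuotSh.quotπ K s t) :=
    (Sheaf.isLocallySurjective_iff_epi _).mpr inferInstance
  haveI : Presheaf.IsLocallySurjective (QuotSh.J K S) (η ≫ (QuotSh.quotπ K s t).hom) :=
    inferInstance
  refine ⟨_, Presheaf.imageSieve_mem (QuotSh.J K S) (η ≫ (QuotSh.quotπ K s t).hom) σ, fun V g hg => ?_⟩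
  obtain ⟨a, ha⟩ := hg
  refine ⟨a.down, Eq.trans ?_ ha⟩
  show repEquiv K _ V _ = _
  simp only [repEquiv, Equiv.trans_apply]
  rw [Adjunction.homEquiv_naturality_left]
  rw [Adjunction.homEquiv_unit]
  show ((η ≫ (QuotSh.quotπ K s t).hom).app (op V)) ⟨𝟙 V ≫ a.down⟩ = _
  rw [Category.id_comp]
  rfl

/-- The relation on points. -/
def Rel (T : Over S) (a b : ULift.{u + 1} (T ⟶ U)) : Prop := ∃ r : T ⟶ R, r ≫ s = a.down ∧ r ≫ t = b.down

/-- The presheaf quotient. -/
def quotPsh : (Over S)ᵒᵖ ⥤ Type (u + 1) where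
  obj T := Quot (Rel s t T.unop)
  map {T T'} g := TypeCat.ofHom (Quot.map (fun a => ⟨g.unop ≫ a.down⟩) fun a b ⟨r, h₁, h₂⟩ =>
    ⟨g.unop ≫ r, by simp [h₁], by simp [h₂]⟩)
  map_id T := by ext ⟨a⟩; exact congrArg (Quot.mk _) (ULift.ext _ _ (Category.id_comp a.down))
  map_comp f g := by ext ⟨a⟩; exact congrArg (Quot.mk _) (ULift.ext _ _ (Category.assoc g.unop f.unop a.down))

/-- The projection to the presheaf quotient. -/
def toQuotPsh : yoneda.obj U ⋙ uliftFunctor.{u + 1, u} ⟶ quotPsh s t where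
  app T := TypeCat.ofHom (Quot.mk _)
  naturality T T' g := by ext a; rfl

/-- The comparison with the sheafified presheaf quotient. -/
def toPshQuot : QuotSh.quot K s t ⟶ (presheafToSheaf (QuotSh.J K S) (Type (u + 1))).obj (quotPsh s t) :=
  coequalizer.desc ((presheafToSheaf (QuotSh.J K S) (Type (u + 1))).map (toQuotPsh s t)) (by
    rw [← Functor.map_comp, ← Functor.map_comp]
    congr 1
    ext T ⟨x⟩
    exact Quot.sound ⟨x, rfl, rfl⟩)

theorem toPshQuot_pt {T : Over S} (a : T ⟶ U) :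
    (toPshQuot K s t).hom.app (op T) (pt K s t a) =
      (toSheafify (QuotSh.J K S) (quotPsh s t)).app (op T) (Quot.mk _ ⟨a⟩) := by
  have h : QuotSh.quotπ K s t ≫ toPshQuot K s t =
      (presheafToSheaf (QuotSh.J K S) (Type (u + 1))).map (toQuotPsh s t) := coequalizer.π_desc _ _
  have e : (toPshQuot K s t).hom.app (op T) (pt K s t a) = repEquiv K _ T ((QuotSh.repMap K a ≫ QuotSh.quotπ K s t) ≫
      toPshQuot K s t) := by
    simp only [pt, repEquiv, Equiv.trans_apply]
    rw [Adjunction.homEquiv_naturality_right]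
    rfl
  rw [e, Category.assoc, h, ← Functor.map_comp]
  simp only [repEquiv, Equiv.trans_apply]
  rw [Adjunction.homEquiv_unit]
  erw [← (sheafificationAdjunction (QuotSh.J K S) (Type (u + 1))).unit.naturality]
  show (toSheafify (QuotSh.J K S) (quotPsh s t)).app (op T) (Quot.mk _ ⟨𝟙 T ≫ a⟩) = _
  rw [Category.id_comp]

/-- **Two points with the same image in the quotient are related.** -/
theorem exists_rel_of_pt_eq [(QuotSh.J K S).Subcanonical] [IsEquivalenceRelation s t] {T : Over S} {a b : T ⟶ U}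
    (h : pt K s t a = pt K s t b) : ∃ r : T ⟶ R, r ≫ s = a ∧ r ≫ t = b := by
  obtain ⟨E⟩ := IsEquivalenceRelation.nonempty_equivalenceRelation (p₁ := s) (p₂ := t)
  haveI := E.toReflexiveRelation.toJointlyMono₂
  have hj : ∀ {V : Over S} (r r' : V ⟶ R), r ≫ s = r' ≫ s → r ≫ t = r' ≫ t → r = r' :=
    fun r r' => JointlyMono₂.right_cancellation r r'
  have hequiv : ∀ V, Equivalence (Rel s t V) := fun V =>
    ⟨fun x => ⟨x.down ≫ E.r, by simp, by simp⟩,
     fun {x y} ⟨r, h₁, h₂⟩ => ⟨r ≫ E.toSymmetricRelation.s,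
        by rw [Category.assoc, E.toSymmetricRelation.symmetry₁, h₂],
        by rw [Category.assoc, E.toSymmetricRelation.symmetry₂, h₁]⟩,
     fun {x y z} ⟨r, h₁, h₂⟩ ⟨r', h₁', h₂'⟩ => by
      obtain ⟨l, hl₁, hl₂⟩ := PullbackCone.IsLimit.lift' E.isLimit r r' (h₂.trans h₁'.symm)
      exact ⟨l ≫ E.t, by rw [Category.assoc, E.transitivity₁, reassoc_of% hl₁, h₁],
        by rw [Category.assoc, E.transitivity₂, reassoc_of% hl₂, h₂']⟩⟩
  have hsieve : Presheaf.equalizerSieve (F := quotPsh s t) (X := op T) (Quot.mk _ ⟨a⟩) (Quot.mk _ ⟨b⟩) ∈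
      QuotSh.J K S T := by
    refine Presheaf.equalizerSieve_mem (QuotSh.J K S) (toSheafify (QuotSh.J K S) (quotPsh s t)) _ _ ?_
    rw [← toPshQuot_pt, ← toPshQuot_pt, h]
  have hex : ∀ {V : Over S} (g : V ⟶ T), (Presheaf.equalizerSieve (F := quotPsh s t) (X := op T) (Quot.mk _ ⟨a⟩)
      (Quot.mk _ ⟨b⟩)) g → ∃ r : V ⟶ R, r ≫ s = g ≫ a ∧ r ≫ t = g ≫ b := fun {V} g hg =>
    (hequiv V).eqvGen_iff.1 (Quot.eqvGen_exact hg)
  have hsh : Presieve.IsSheafFor (yoneda.obj R) (Presheaf.equalizerSieve (F := quotPsh s t) (X := op T)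
      (Quot.mk _ ⟨a⟩) (Quot.mk _ ⟨b⟩)).arrows :=
    GrothendieckTopology.Subcanonical.isSheaf_of_isRepresentable (J := QuotSh.J K S) (yoneda.obj R) _ hsieve
  let fam : Presieve.FamilyOfElements (yoneda.obj R) (Presheaf.equalizerSieve (F := quotPsh s t) (X := op T)
      (Quot.mk _ ⟨a⟩) (Quot.mk _ ⟨b⟩)).arrows := fun V g hg => (hex g hg).choose
  have hfam : fam.Compatible := by
    intro V₁ V₂ W g₁ g₂ f₁ f₂ hf₁ hf₂ hg
    show g₁ ≫ (hex f₁ hf₁).choose = g₂ ≫ (hex f₂ hf₂).choose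
    refine hj _ _ ?_ ?_
    · rw [Category.assoc, Category.assoc, (hex f₁ hf₁).choose_spec.1, (hex f₂ hf₂).choose_spec.1, ← Category.assoc,
        hg, Category.assoc]
    · rw [Category.assoc, Category.assoc, (hex f₁ hf₁).choose_spec.2, (hex f₂ hf₂).choose_spec.2, ← Category.assoc,
        hg, Category.assoc]
  have hU : Presieve.IsSeparatedFor (yoneda.obj U) (Presheaf.equalizerSieve (F := quotPsh s t) (X := op T)
      (Quot.mk _ ⟨a⟩) (Quot.mk _ ⟨b⟩)).arrows :=
    (GrothendieckTopology.Subcanonical.isSheaf_of_isRepresentable (J := QuotSh.J K S) (yoneda.obj U) _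
      hsieve).isSeparatedFor
  refine ⟨hsh.amalgamate fam hfam, hU.ext fun V g hg => ?_, hU.ext fun V g hg => ?_⟩
  · show g ≫ (hsh.amalgamate fam hfam ≫ s) = g ≫ a
    rw [← Category.assoc, show g ≫ hsh.amalgamate fam hfam = fam g hg from hsh.valid_glue hfam g hg]
    exact (hex g hg).choose_spec.1
  · show g ≫ (hsh.amalgamate fam hfam ≫ t) = g ≫ b
    rw [← Category.assoc, show g ≫ hsh.amalgamate fam hfam = fam g hg from hsh.valid_glue hfam g hg]
    exact (hex g hg).choose_spec.2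

theorem pt_eq_iff [(QuotSh.J K S).Subcanonical] [IsEquivalenceRelation s t] {T : Over S} {a b : T ⟶ U} :
    pt K s t a = pt K s t b ↔ ∃ r : T ⟶ R, r ≫ s = a ∧ r ≫ t = b :=
  ⟨exists_rel_of_pt_eq K s t, fun ⟨r, h₁, h₂⟩ => by rw [← h₁, ← h₂, pt_rel]⟩

end QuotFpqc
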