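import Groth.Agent.QuotFpqcLib.Points
import Groth.Agent.QuotFpqcLib.Core

/-!
# Families of sections of quotient sheaves on fpqc coverings
-/

set_option autoImplicit false
set_option backward.isDefEq.respectTransparency false
set_option backward.isDefEq.respectTransparency.types false

universe u

open CategoryTheory CategoryTheory.Limits AlgebraicGeometry MonoidalCategory CartesianMonoidalCategory Opposite

namespace QuotFpqc

variable {S : Scheme.{u}} {R U : Over S} {s t : R ⟶ U} {K : Precoverage Scheme.{u}}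

/-- Points describing a compatible family on a single covering. -/
theorem exists_point_data [(QuotSh.J K S).Subcanonical] [IsEquivalenceRelation s t]
    [Mono (lift t s : R ⟶ U ⊗ U).left]
    (hle : ∀ {T : Over S} {𝒮 : Sieve T}, 𝒮 ∈ QuotSh.J K S T → 𝒮 ∈ QuotSh.J Scheme.fpqcPrecoverage S T)
    {T : Over S} {𝒮 : Sieve T} (h𝒮 : 𝒮 ∈ QuotSh.J Scheme.fpqcPrecoverage S T)
    (x : Presieve.FamilyOfElements (QuotSh.quot K s t).obj 𝒮.arrows) (hx : x.Compatible) :
    ∃ (T' : Over S) (p : T' ⟶ T) (a : T' ⟶ U), DescLib.Fpqc p.left ∧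
      (∀ ⦃V : Over S⦄ (y₀ y₁ : V ⟶ T'), y₀ ≫ p = y₁ ≫ p → Related s t (y₀ ≫ a) (y₁ ≫ a)) ∧
      (∀ ⦃V : Over S⦄ (g : V ⟶ T) (hg : 𝒮 g) (c : V ⟶ U), pt K s t c = x g hg →
        ∀ y : V ⟶ T', y ≫ p = g → Related s t c (y ≫ a)) ∧
      (∀ ⦃V : Over S⦄ (τ : V ⟶ T) (u : V ⟶ U),
        (∀ ⦃W : Over S⦄ (k : W ⟶ V) (y : W ⟶ T'), y ≫ p = k ≫ τ → Related s t (k ≫ u) (y ≫ a)) →
        ∃ 𝒢 ∈ QuotSh.J Scheme.fpqcPrecoverage S V, ∀ ⦃W : Over S⦄ (k : W ⟶ V), 𝒢 k →
          ∃ hk : 𝒮 (k ≫ τ), pt K s t (k ≫ u) = x (k ≫ τ) hk) := by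
  have hmap : ∀ {V W : Over S} (g : V ⟶ T) (hg : 𝒮 g) (k : W ⟶ V),
      x (k ≫ g) (𝒮.downward_closed hg k) = (QuotSh.quot K s t).obj.map k.op (x g hg) := fun g hg k =>
    hx.to_sieveCompatible g k hg
  let 𝒮' : Sieve T :=
    { arrows := fun V g => ∃ (hg : 𝒮 g) (c : V ⟶ U), pt K s t c = x g hg
      downward_closed := fun {V W g} ⟨hg, c, hc⟩ k =>
        ⟨𝒮.downward_closed hg k, k ≫ c, by rw [hmap g hg k, ← hc, map_pt]⟩ }
  have h𝒮' : 𝒮' ∈ QuotSh.J Scheme.fpqcPrecoverage S T := by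
    refine GrothendieckTopology.transitive _ h𝒮 _ fun V g hg => ?_
    obtain ⟨𝒯, h𝒯, hpt⟩ := exists_local_pt K s t (x g hg)
    refine GrothendieckTopology.superset_covering _ ?_ (hle h𝒯)
    intro W k hk
    obtain ⟨c, hc⟩ := hpt k hk
    exact ⟨𝒮.downward_closed hg k, c, by rw [hmap g hg k, hc]⟩
  obtain ⟨ι, V₀, g₀, hg₀, hmem⟩ := exists_family_of_mem h𝒮'
  choose hg a₀ ha₀ using hg₀
  haveI := DescLib.fpqc_sigmaDesc hmem
  let T' : Over S := Over.mk (Limits.Sigma.desc (fun i => (g₀ i).left) ≫ T.hom)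
  let p : T' ⟶ T := Over.homMk (Limits.Sigma.desc fun i => (g₀ i).left)
  let inj : ∀ i, V₀ i ⟶ T' := fun i => Over.homMk (Sigma.ι (fun i => (V₀ i).left) i) (by
    show Sigma.ι (fun i => (V₀ i).left) i ≫ Limits.Sigma.desc (fun i => (g₀ i).left) ≫ T.hom = _
    rw [Sigma.ι_desc_assoc, Over.w (g₀ i)])
  let a : T' ⟶ U := Over.homMk (Limits.Sigma.desc fun i => (a₀ i).left) (by
    refine Sigma.hom_ext _ _ fun i => ?_
    show Sigma.ι (fun i => (V₀ i).left) i ≫ _ = Sigma.ι (fun i => (V₀ i).left) i ≫ Limits.Sigma.desc _ ≫ T.hom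
    rw [Sigma.ι_desc_assoc, Sigma.ι_desc_assoc, Over.w (g₀ i), Over.w (a₀ i)])
  have hip : ∀ i, inj i ≫ p = g₀ i := fun i => Over.OverMorphism.ext (Sigma.ι_desc _ _)
  have hia : ∀ i, inj i ≫ a = a₀ i := fun i => Over.OverMorphism.ext (Sigma.ι_desc _ _)
  -- decomposition of a point of `T'`
  have hdec : ∀ {V : Over S} (y : V ⟶ T') {c c' : V ⟶ U},
      (∀ (W : Over S) (k : W ⟶ V) (i : ι) (h : W ⟶ V₀ i), h ≫ inj i = k ≫ y → Related s t (k ≫ c) (k ≫ c')) →
      Related s t c c' := by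
    intro V y c c' H
    let 𝒰 : V.left.OpenCover := (sigmaOpenCover fun i => (V₀ i).left).pullback₁ y.left
    refine related_of_openCover 𝒰 fun i => ?_
    have e : pullback.snd y.left (Sigma.ι (fun i => (V₀ i).left) i) ≫ Sigma.ι (fun i => (V₀ i).left) i =
        𝒰.f i ≫ y.left := pullback.condition.symm
    refine H (Over.mk (𝒰.f i ≫ V.hom)) (Over.homMk (𝒰.f i)) i
      (Over.homMk (pullback.snd y.left (Sigma.ι (fun i => (V₀ i).left) i)) (by
        show pullback.snd y.left (Sigma.ι (fun i => (V₀ i).left) i) ≫ (V₀ i).hom = 𝒰.f i ≫ V.hom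
        rw [← Over.w y, ← Over.w (inj i)]
        exact (reassoc_of% e) T'.hom)) (Over.OverMorphism.ext e)
  have hkey : ∀ ⦃V : Over S⦄ (g : V ⟶ T) (hg : 𝒮 g) (c : V ⟶ U), pt K s t c = x g hg →
      ∀ y : V ⟶ T', y ≫ p = g → Related s t c (y ≫ a) := by
    intro V g hg' c hc y hy
    refine hdec y fun W k i h he => (pt_eq_iff K s t).1 ?_
    have e1 : k ≫ g = h ≫ g₀ i := by rw [← hy, ← Category.assoc, ← he, Category.assoc, hip]
    have e2 : k ≫ y ≫ a = h ≫ a₀ i := by rw [← Category.assoc, ← he, Category.assoc, hia]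
    rw [e2, ← map_pt, ← map_pt, hc, ha₀, ← hmap g hg' k, ← hmap (g₀ i) (hg i) h]
    congr 1
  refine ⟨T', p, a, ‹DescLib.Fpqc (Limits.Sigma.desc fun i => (g₀ i).left)›, fun V y₀ y₁ he => ?_, hkey,
    fun V τ u hu => ?_⟩
  · refine hdec y₀ fun W k i h hh => ?_
    have e : k ≫ y₀ ≫ a = h ≫ a₀ i := by rw [← Category.assoc, ← hh, Category.assoc, hia]
    rw [e, ← Category.assoc k y₁]
    refine hkey (h ≫ g₀ i) (𝒮.downward_closed (hg i) h) _ (by rw [hmap _ (hg i) h, ← ha₀, map_pt]) _ ?_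
    rw [Category.assoc, ← he, ← Category.assoc, ← hh, Category.assoc, hip]
  · refine ⟨(Sieve.ofArrows V₀ g₀).pullback τ, GrothendieckTopology.pullback_stable _ τ (ofArrows_mem g₀ hmem),
      fun W k hk => ?_⟩
    obtain ⟨_, h, _, ⟨i⟩, he⟩ := hk
    have hk' : 𝒮 (k ≫ τ) := he ▸ 𝒮.downward_closed (hg i) h
    refine ⟨hk', ?_⟩
    have hr := hu k (h ≫ inj i) (by rw [Category.assoc, hip, he])
    rw [Category.assoc, hia] at hr
    rw [(pt_eq_iff K s t).2 hr, ← map_pt, ha₀, ← hmap (g₀ i) (hg i) h]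
    congr 1

/-- The fppf quotient is separated for the fpqc topology. -/
theorem eq_of_fpqc_local [IsEquivalenceRelation s t] [Mono (lift t s : R ⟶ U ⊗ U).left] {T : Over S}
    (σ₁ σ₂ : (QuotSh.quot Scheme.fppfPrecoverage s t).obj.obj (op T)) {𝒮 : Sieve T}
    (h𝒮 : 𝒮 ∈ QuotSh.J Scheme.fpqcPrecoverage S T)
    (h : ∀ ⦃V : Over S⦄ (g : V ⟶ T), 𝒮 g → (QuotSh.quot Scheme.fppfPrecoverage s t).obj.map g.op σ₁ =
      (QuotSh.quot Scheme.fppfPrecoverage s t).obj.map g.op σ₂) : σ₁ = σ₂ := by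
  obtain ⟨𝒯₁, h𝒯₁, hpt₁⟩ := exists_local_pt Scheme.fppfPrecoverage s t σ₁
  obtain ⟨𝒯₂, h𝒯₂, hpt₂⟩ := exists_local_pt Scheme.fppfPrecoverage s t σ₂
  have hsh := ((isSheaf_iff_isSheaf_of_type _ _).1 (QuotSh.quot Scheme.fppfPrecoverage s t).property
    (𝒯₁ ⊓ 𝒯₂) (GrothendieckTopology.intersection_covering _ h𝒯₁ h𝒯₂)).isSeparatedFor
  refine hsh.ext fun V k hk => ?_
  obtain ⟨c₁, hc₁⟩ := hpt₁ k hk.1
  obtain ⟨c₂, hc₂⟩ := hpt₂ k hk.2
  rw [← hc₁, ← hc₂, pt_eq_iff]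
  obtain ⟨ι, W, w, hw, hmem⟩ := exists_family_of_mem (GrothendieckTopology.pullback_stable _ k h𝒮)
  haveI := DescLib.fpqc_sigmaDesc hmem
  have hrel : ∀ i, Related s t (w i ≫ c₁) (w i ≫ c₂) := fun i => (pt_eq_iff _ s t).1 (by
    rw [← map_pt, ← map_pt, hc₁, hc₂, ← Functor.map_comp_apply, ← Functor.map_comp_apply, ← op_comp]
    exact h _ (hw i))
  change Related s t c₁ c₂
  simp only [related_iff_lift] at hrel
  rw [related_iff_lift]
  choose z hz using hrel
  refine exists_lift_of_fpqc _ (Limits.Sigma.desc fun i => (w i).left) _ (Limits.Sigma.desc z) ?_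
  refine Sigma.hom_ext _ _ fun i => ?_
  rw [Sigma.ι_desc_assoc, Sigma.ι_desc_assoc, hz, ← comp_lift, Over.comp_left]

/-- **An fppf quotient by a relation with closed graph is a sheaf for the fpqc topology.** -/
theorem isSheaf_fpqc [IsEquivalenceRelation s t] [Flat s.left] [Surjective s.left]
    [LocallyOfFinitePresentation s.left] (hc : IsClosedImmersion (lift t s : R ⟶ U ⊗ U).left) :
    Presheaf.IsSheaf (QuotSh.J Scheme.fpqcPrecoverage S) (QuotSh.quot Scheme.fppfPrecoverage s t).obj := by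
  haveI : Mono (lift t s : R ⟶ U ⊗ U).left := inferInstance
  rw [isSheaf_iff_isSheaf_of_type]
  intro T 𝒮 h𝒮 x hx
  obtain ⟨T', p, a, hp, hcompat, hkey, -⟩ := exists_point_data mem_fpqc_of_mem_fppf h𝒮 x hx
  haveI := hp
  obtain ⟨Z, i, hi, hiff⟩ := exists_subscheme (s := s) (t := t) @IsClosedImmersion hc
    (fun i' hi' hst => by haveI : IsClosedImmersion i' := hi'; exact exists_closed_sub i' hst) p a hcompat
  haveI : IsClosedImmersion i.left := hi
  haveI : Mono i.left := inferInstance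
  haveI hfl : Flat (i ≫ snd U T).left := proj_property p a i hiff @Flat inferInstance
  haveI hsu : Surjective (i ≫ snd U T).left := proj_property p a i hiff @Surjective inferInstance
  haveI hfp : LocallyOfFinitePresentation (i ≫ snd U T).left :=
    proj_property p a i hiff @LocallyOfFinitePresentation inferInstance
  let q : Z ⟶ T := i ≫ snd U T
  let F := QuotSh.quot Scheme.fppfPrecoverage s t
  have hcov : Sieve.generate (Presieve.singleton q) ∈ QuotSh.J Scheme.fppfPrecoverage S T := by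
    rw [GrothendieckTopology.mem_over_iff, Sieve.overEquiv_generate]
    refine GrothendieckTopology.superset_covering _ ?_
      (Precoverage.generate_mem_toGrothendieck (Scheme.Hom.singleton_mem_fppfPrecoverage q.left))
    refine (Sieve.generate_le_iff _ _).2 ?_
    rintro _ _ ⟨⟩
    exact Sieve.le_generate _ _ _ ⟨Z, q, 𝟙 _, ⟨⟩, (Category.id_comp _).symm⟩
  have hsh : Presieve.IsSheafFor F.obj (Presieve.singleton q) :=
    Presieve.isSheafFor_iff_generate _ |>.2 ((isSheaf_iff_isSheaf_of_type _ _).1 F.property _ hcov)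
  obtain ⟨σ, hσ, -⟩ := Presieve.isSheafFor_singleton.1 hsh (pt Scheme.fppfPrecoverage s t (i ≫ fst U T))
    fun {V} z₁ z₂ hz => by
      rw [map_pt, map_pt, pt_eq_iff]
      exact related_of_pair p a i hiff z₁ z₂ hz
  refine ⟨σ, fun V g hg => ?_, fun σ' hσ' => ?_⟩
  · obtain ⟨𝒯, h𝒯, hpt⟩ := exists_local_pt Scheme.fppfPrecoverage s t (x g hg)
    refine ((isSheaf_iff_isSheaf_of_type _ _).1 F.property _ h𝒯).isSeparatedFor.ext fun W k hk => ?_
    obtain ⟨c, hc'⟩ := hpt k hk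
    rw [← hc', ← Functor.map_comp_apply, ← op_comp]
    obtain ⟨W', π, y, hπ, hy⟩ := exists_cover_over p (k ≫ g)
    haveI := hπ
    obtain ⟨z, hz⟩ : ∃ z, z ≫ i = lift c (k ≫ g) := by
      refine factors_of_fpqc i π _ ((hiff (π ≫ lift c (k ≫ g)) y (by simpa using hy)).2 ?_)
      rw [Category.assoc, lift_fst]
      refine hkey _ (𝒮.downward_closed (𝒮.downward_closed hg k) π) (π ≫ c) ?_ y hy
      rw [hx.to_sieveCompatible _ π (𝒮.downward_closed hg k), ← map_pt, hx.to_sieveCompatible g k hg, hc']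
    have h1 : z ≫ q = k ≫ g := by simp only [q, reassoc_of% hz, lift_snd]
    rw [← h1, op_comp, Functor.map_comp_apply, hσ, map_pt, ← Category.assoc, hz, lift_fst]
  · refine eq_of_fpqc_local _ _ h𝒮 fun V g hg => ?_
    rw [hσ' g hg]
    obtain ⟨𝒯, h𝒯, hpt⟩ := exists_local_pt Scheme.fppfPrecoverage s t (x g hg)
    refine ((isSheaf_iff_isSheaf_of_type _ _).1 F.property _ h𝒯).isSeparatedFor.ext fun W k hk => ?_
    obtain ⟨c, hc'⟩ := hpt k hk
    rw [← hc', ← Functor.map_comp_apply, ← op_comp]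
    obtain ⟨W', π, y, hπ, hy⟩ := exists_cover_over p (k ≫ g)
    haveI := hπ
    obtain ⟨z, hz⟩ : ∃ z, z ≫ i = lift c (k ≫ g) := by
      refine factors_of_fpqc i π _ ((hiff (π ≫ lift c (k ≫ g)) y (by simpa using hy)).2 ?_)
      rw [Category.assoc, lift_fst]
      refine hkey _ (𝒮.downward_closed (𝒮.downward_closed hg k) π) (π ≫ c) ?_ y hy
      rw [hx.to_sieveCompatible _ π (𝒮.downward_closed hg k), ← map_pt, hx.to_sieveCompatible g k hg, hc']
    have h1 : z ≫ q = k ≫ g := by simp only [q, reassoc_of% hz, lift_snd]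
    rw [← h1, op_comp, Functor.map_comp_apply, hσ, map_pt, ← Category.assoc, hz, lift_fst]

end QuotFpqc
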